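import Cfsg.Agent.H776.P4.Asm
import Cfsg.Agent.H772.P4.Gen

/-!
# S5210: the assembly for `q = 3`
-/

set_option autoImplicit false

namespace Cfsg.Agent.H772.P4

open Cfsg Cfsg.FusionSystem Cfsg.Agent.H802 Cfsg.Agent.H776.P4
open Cfsg.Agent.H756.PU (HypK Ess Inv Com NormAut TIAut AF)
open Cfsg.Agent.H756

universe u

/-- the pieces for `q = 3` -/
structure Pcs3 : Prop extends Pcs.{u} where
  d3 : StThreeD.{u}
  n3 : StThreeN.{u}
  t3 : StThreeT.{u}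
  ep : StEp.{u}
  lamN : StLamN.{u}
  mcl : StThreeP.{u} 8 240
  mcl2 : StThreeP.{u} 16 480
  u6 : StThreeP.{u} 8 384
  u62 : StThreeP.{u} 16 768
  co2 : StThreeP.{u} 32 3840

section

variable {K : Type u} [Field K] [StarRing K] {p n : ℕ}

/-- what is preserved by the twists -/
structure Rl (p : ℕ) (F F' : FusionSystem (⊤ : Subgroup (PG K))) : Prop where
  real : F'.IsRealizable p ↔ F.IsRealizable p
  af : Nat.card (AF F') = Nat.card (AF F)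
  aq : Nat.card (F'.autGroup (PQ K)) = Nat.card (F.autGroup (PQ K))

theorem Rl.refl (F : FusionSystem (⊤ : Subgroup (PG K))) : Rl p F F := ⟨Iff.rfl, rfl, rfl⟩

theorem Rl.trans {F F' F'' : FusionSystem (⊤ : Subgroup (PG K))} (h : Rl p F F') (h' : Rl p F' F'') : Rl p F F'' :=
  ⟨h'.real.trans h.real, h'.af.trans h.af, h'.aq.trans h.aq⟩

theorem Rl.of_tw {F F' : FusionSystem (⊤ : Subgroup (PG K))} {θ : MulAut (PG K)} (h : Tw p F F' θ) : Rl p F F' :=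
  ⟨h.real, by rw [h.AF_eq, H776.P4.card_map_conj], h.card _ (Or.inr rfl)⟩

/-- the multiplicities `|Γ| / (81 |D|)` -/
def mT : Fin 6 → ℕ := ![12, 48, 48, 30, 30, 120]

theorem IsEp.ext {κ : K} {ε ε' : MulAut (PG K)} (h : IsEp κ ε) (h' : IsEp κ ε') : ε = ε' := by
  apply MulEquiv.ext
  intro g
  apply PG.ext
  · rw [h.r, h'.r]
  · rw [h.a, h'.a]
  · rw [h.b, h'.b]
  · rw [h.c, h'.c]

/-- twisting a system in normal form by an element of the torus -/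
theorem twist_tor (H : Pcs3.{u}) (hK : HypK K p n) {F : FusionSystem (⊤ : Subgroup (PG K))}
    {D : Subgroup (MulAut (PG K))} (h : NF p F D) {α : MulAut (PG K)} {s l : K} {τ : K ≃+* K} (hα : IsTorP α s l τ) :
    ∃ F' : FusionSystem (⊤ : Subgroup (PG K)), NF p F' (D.map (MulAut.conj α).toMonoidHom) ∧ Rl p F F' ∧
      ∀ t : MulAut (PQ K), IsRP α t → F'.autGroup (PQ K) = (F.autGroup (PQ K)).map (MulAut.conj t).toMonoidHom := by
  have : Fact p.Prime := ⟨hK.pp⟩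
  have hαT : α ∈ TP K := Subgroup.subset_closure ⟨s, l, τ, hα⟩
  obtain ⟨F', hT⟩ := exists_tw H.toPcs hK h.sat α
  have hD : D.map (MulAut.conj α).toMonoidHom ≤ TP K := by
    rintro _ ⟨d, hd, rfl⟩
    exact (TP K).mul_mem ((TP K).mul_mem hαT (h.parV.D_le hd)) ((TP K).inv_mem hαT)
  have hDc : (Nat.card (D.map (MulAut.conj α).toMonoidHom)).Coprime p := by
    rw [H776.P4.card_map_conj]
    exact h.parV.D_cop
  have hAF : AF F' = (MulAut.conj : PG K →* MulAut (PG K)).range ⊔ D.map (MulAut.conj α).toMonoidHom := by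
    rw [hT.AF_eq, h.AF_eq, Subgroup.map_sup, PU.map_conj_range]
  have hess := hT.ess h.ess
  have hpV := par_of H.toPcs hK hT.sat hess hD hDc hAF (Or.inl rfl) (fun hh => h.parV.nn ((hT.norm _ (Or.inl rfl)).1 hh))
  have hpQ := par_of H.toPcs hK hT.sat hess hD hDc hAF (Or.inr rfl) (fun hh => h.parQ.nn ((hT.norm _ (Or.inr rfl)).1 hh))
  refine ⟨F', ⟨hT.sat, hess, hAF, hpV, hpQ, (H.v hK _ _ hpV).1, ?_⟩, Rl.of_tw hT, fun t ht => hT.aut _ (Or.inr rfl) t ht⟩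
  obtain ⟨t, ht⟩ := exists_res α (((H.ti hK).2 _ (Or.inl rfl)).2.2 α)
  rw [hT.aut _ (Or.inl rfl) t ht]
  have hL := (H.lamN hK α hαT).1 t ht
  have ht' := restr_inv ht
  intro γ
  constructor
  · rintro ⟨γ', hγ', rfl⟩
    obtain ⟨l', hl', d, hd, δ, hδ, rfl⟩ := (h.eqV γ').1 hγ'
    refine ⟨t * l' * t⁻¹, ?_, α * d * α⁻¹, ⟨d, hd, rfl⟩, t * δ * t⁻¹, ?_, ?_⟩
    · rw [← hL]
      exact ⟨l', hl', rfl⟩
    · intro e
      show ((t (δ (t⁻¹ e)) : PV K) : PG K) = α (d (α⁻¹ e))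
      rw [ht, hδ, ht']
    · show t * (l' * δ) * t⁻¹ = _
      group
  · rintro ⟨l', hl', _, ⟨d, hd, rfl⟩, δ, hδ, rfl⟩
    rw [← hL] at hl'
    obtain ⟨l₀, hl₀, rfl⟩ := hl'
    refine ⟨l₀ * (t⁻¹ * δ * t), (h.eqV _).2 ⟨l₀, hl₀, d, hd, t⁻¹ * δ * t, ?_, rfl⟩, ?_⟩
    · intro e
      show ((t⁻¹ (δ (t e)) : PV K) : PG K) = d e
      rw [ht', hδ, ht]
      show α⁻¹ (α (d (α⁻¹ (α (e : PG K))))) = _
      rw [MulAut.inv_apply_self, MulAut.inv_apply_self]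
    · show t * (l₀ * (t⁻¹ * δ * t)) * t⁻¹ = (t * l₀ * t⁻¹) * δ
      group

/-- translation of the configuration to the origin -/
theorem norm_pt (H : Pcs3.{u}) (hK : HypK K p n) (h3 : p ^ n = 3) {ι : K} (hι : ι * ι = -1)
    {F : FusionSystem (⊤ : Subgroup (PG K))} {D : Subgroup (MulAut (PG K))} (h : NF p F D) :
    ∃ (F' : FusionSystem (⊤ : Subgroup (PG K))) (T : Fin 6), NF p F' D ∧ Rl p F F' ∧
      Pt (F'.autGroup (PQ K)) = Cfg ι T := by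
  obtain ⟨κ, T, hfix, hPt, -, -, -, -⟩ := H.d3 hK h3 ι hι _ D h.parQ h.tor
  obtain ⟨-, hconj, hres, hpt, -, -⟩ := H.ep hK h3
  obtain ⟨ε, hε⟩ := (H.grp hK).2.2.2.2.2.1 (p_three hK h3) (-κ)
  have hcomm : ∀ d ∈ D, ε * d = d * ε := by
    intro d hd
    obtain ⟨s, l, τ, hτ⟩ := (H.grp hK).2.2.2.1 d (h.parV.D_le hd)
    have h1 := hconj (-κ) d ε s l τ hτ hε
    have h2 : actK s l τ (-κ) = -κ := by
      have h4 := hfix d hd s l τ hτ
      unfold actK at h4 ⊢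
      rw [map_neg, mul_neg, h4]
    rw [h2] at h1
    have h4 := IsEp.ext h1 hε
    rw [mul_inv_eq_iff_eq_mul] at h4
    exact h4.symm
  obtain ⟨F', hT⟩ := exists_tw H.toPcs hK h.sat ε
  have hAF : AF F' = (MulAut.conj : PG K →* MulAut (PG K)).range ⊔ D := by
    rw [hT.AF_eq, h.AF_eq, Subgroup.map_sup, PU.map_conj_range, map_conj_of_comm _ _ hcomm]
  have hess := hT.ess h.ess
  obtain ⟨tV, htV⟩ := exists_res ε (((H.ti hK).2 _ (Or.inl rfl)).2.2 ε)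
  obtain ⟨tQ, htQ⟩ := exists_res ε (((H.ti hK).2 _ (Or.inr rfl)).2.2 ε)
  refine ⟨F', T, ⟨hT.sat, hess, hAF, ?_, ?_, h.tor, ?_⟩, Rl.of_tw hT, ?_⟩
  · exact par_of H.toPcs hK hT.sat hess h.parV.D_le h.parV.D_cop hAF (Or.inl rfl)
      (fun hh => h.parV.nn ((hT.norm _ (Or.inl rfl)).1 hh))
  · exact par_of H.toPcs hK hT.sat hess h.parV.D_le h.parV.D_cop hAF (Or.inr rfl)
      (fun hh => h.parQ.nn ((hT.norm _ (Or.inr rfl)).1 hh))
  · have h1 := hT.aut _ (Or.inl rfl) tV htV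
    rw [hres (-κ) ε tV hε htV] at h1
    have h2 : (F.autGroup (PV K)).map (MulAut.conj (1 : MulAut (PV K))).toMonoidHom = F.autGroup (PV K) :=
      map_conj_of_comm _ _ fun d _ => by rw [one_mul, mul_one]
    rw [h1, h2]
    exact h.eqV
  · rw [hT.aut _ (Or.inr rfl) tQ htQ, hpt (-κ) ε tQ _ hε htQ (autInducedBy_le_autGroup F le_top), hPt]
    ext x
    constructor
    · rintro ⟨y, ⟨z, hz, rfl⟩, rfl⟩
      rwa [neg_add_cancel_left]
    · intro hx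
      exact ⟨κ + x, ⟨x, hx, rfl⟩, by rw [neg_add_cancel_left]⟩

/-- the data of a normalized system -/
theorem data (H : Pcs3.{u}) (hK : HypK K p n) (h3 : p ^ n = 3) {ι : K} (hι : ι * ι = -1)
    {F : FusionSystem (⊤ : Subgroup (PG K))} {D : Subgroup (MulAut (PG K))} (h : NF p F D) {T : Fin 6}
    (hT : Pt (F.autGroup (PQ K)) = Cfg ι T) :
    InvK D (Cfg ι T) ∧
      (∀ (α : MulAut (PG K)) (s l : K) (τ : K ≃+* K), IsTorP α s l τ → CfgMap ι T (actK s l τ) → α ∈ D) ∧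
      EqLD (F.autGroup (PQ K)) (LamP (Cfg ι T)) D ∧ HasTorK D ∧
      Nat.card (F.autGroup (PQ K)) = 81 * mT T * Nat.card D ∧ Nat.card (AF F) = 243 * Nat.card D := by
  have : Fact p.Prime := ⟨hK.pp⟩
  have hfin : Finite (PG K) := finite_PG H.toPcs hK
  obtain ⟨κ, T', -, hPt, hInv, hMap, hEq, hTor⟩ := H.d3 hK h3 ι hι _ D h.parQ h.tor
  have hTT : T' = T := (H.t3 hK h3 ι hι).2.1 κ T' T (hPt.symm.trans hT)
  subst hTT
  refine ⟨hInv, hMap, ?_, hTor, ?_, ?_⟩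
  · rw [← hT]
    exact hEq
  · obtain ⟨n0, n1, n2, n5⟩ := H.n3 hK h3 ι hι _ D h.parQ h.tor T' hT hEq
    fin_cases T'
    · exact n0 rfl
    · exact n1 (Or.inl rfl)
    · exact n1 (Or.inr rfl)
    · exact n2 (Or.inl rfl)
    · exact n2 (Or.inr rfl)
    · exact n5 rfl
  · rw [h.AF_eq, card_inn_sup (H.grp hK).2.1 D h.parV.D_cop, card_inn hK h3 (H.grp hK).1]

/-- the complete normal form, `T ∈ {0, 1, 3, 5}` -/
theorem norm_three (H : Pcs3.{u}) (hK : HypK K p n) (h3 : p ^ n = 3) {ι : K} (hι : ι * ι = -1)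
    {F : FusionSystem (⊤ : Subgroup (PG K))} {D : Subgroup (MulAut (PG K))} (h : NF p F D) :
    ∃ (F' : FusionSystem (⊤ : Subgroup (PG K))) (D' : Subgroup (MulAut (PG K))) (T : Fin 6), NF p F' D' ∧ Rl p F F' ∧
      Pt (F'.autGroup (PQ K)) = Cfg ι T ∧ (T = 0 ∨ T = 1 ∨ T = 3 ∨ T = 5) := by
  obtain ⟨F1, T, h1, hR1, hPt⟩ := norm_pt H hK h3 hι h
  obtain ⟨α, s, l, τ, hα, hc1, hc3⟩ := (H.t3 hK h3 ι hι).2.2.1
  obtain ⟨-, -, -, -, hpt, -⟩ := H.ep hK h3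
  have key : ∀ T' : Fin 6, Cfg ι T' = {x | ∃ y ∈ Cfg ι T, x = actK s l τ y} → (T' = 0 ∨ T' = 1 ∨ T' = 3 ∨ T' = 5) →
      ∃ (F' : FusionSystem (⊤ : Subgroup (PG K))) (D' : Subgroup (MulAut (PG K))) (T : Fin 6), NF p F' D' ∧ Rl p F F' ∧
      Pt (F'.autGroup (PQ K)) = Cfg ι T ∧ (T = 0 ∨ T = 1 ∨ T = 3 ∨ T = 5) := by
    intro T' hT' hT0
    obtain ⟨F2, h2, hR2, haut⟩ := twist_tor H hK h1 hα
    obtain ⟨t, ht⟩ := exists_res α (((H.ti hK).2 _ (Or.inr rfl)).2.2 α)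
    refine ⟨F2, _, T', h2, hR1.trans hR2, ?_, hT0⟩
    rw [haut t ht, hpt α s l τ t _ hα ht (autInducedBy_le_autGroup F1 le_top), hPt, hT']
  fin_cases T
  · exact ⟨F1, D, 0, h1, hR1, hPt, Or.inl rfl⟩
  · exact ⟨F1, D, 1, h1, hR1, hPt, Or.inr (Or.inl rfl)⟩
  · exact key 1 hc1 (Or.inr (Or.inl rfl))
  · exact ⟨F1, D, 3, h1, hR1, hPt, Or.inr (Or.inr (Or.inl rfl))⟩
  · exact key 3 hc3 (Or.inr (Or.inr (Or.inl rfl)))
  · exact ⟨F1, D, 5, h1, hR1, hPt, Or.inr (Or.inr (Or.inr rfl))⟩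

theorem mT_inj {T T' : Fin 6} (hT : T = 0 ∨ T = 1 ∨ T = 3 ∨ T = 5) (hT' : T' = 0 ∨ T' = 1 ∨ T' = 3 ∨ T' = 5)
    (h : mT T = mT T') : T = T' := by
  revert T T'
  decide

theorem twelve_le (T : Fin 6) : 12 ≤ mT T := by
  revert T
  decide

/-- the sporadic cases -/
theorem spor (H : Pcs3.{u}) (hK : HypK K p n) (h3 : p ^ n = 3) {ι : K} (hι : ι * ι = -1)
    {F : FusionSystem (⊤ : Subgroup (PG K))} {D : Subgroup (MulAut (PG K))} (h : NF p F D) {T : Fin 6}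
    (hT : Pt (F.autGroup (PQ K)) = Cfg ι T) (hT0 : T = 0 ∨ T = 1 ∨ T = 3 ∨ T = 5) (hne : T ≠ 0) {d y : ℕ}
    (hP : StThreeP.{u} d y) (hd : Nat.card D = d) (hy : y = mT T * d) : F.IsRealizable p := by
  have : Fact p.Prime := ⟨hK.pp⟩
  have hfin : Finite (PG K) := finite_PG H.toPcs hK
  have hfinA : Finite (MulAut (PG K)) :=
    Finite.of_injective (fun α : MulAut (PG K) => α.toEquiv) (fun a b h => by
      ext1 x; exact congrArg (fun e : PG K ≃ PG K => e x) h)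
  obtain ⟨F1, sat1, real1, cA, cQ, nv, nq⟩ := hP hK h3
  obtain ⟨θ, F2, D2, hTw, hNF2⟩ := exists_NF H.toPcs hK sat1
    (fun E hE => ess_cases H.toPcs hK (by omega) sat1 hE) nv nq
  obtain ⟨F3, D3, T3, h3', hR, hPt3, hT3⟩ := norm_three H hK h3 hι hNF2
  have hR' := (Rl.of_tw hTw).trans hR
  obtain ⟨a1, a2, a3, -, -, -⟩ := data H hK h3 hι h hT
  obtain ⟨b1, b2, b3, -, b5, b6⟩ := data H hK h3 hι h3' hPt3
  have hd3 : Nat.card D3 = d := by
    have := hR'.af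
    rw [b6, cA] at this
    omega
  have hdpos : 0 < d := by
    rw [← hd]
    exact Nat.card_pos
  have hm : mT T3 = mT T := by
    have h5 := hR'.aq
    rw [b5, cQ, hy, hd3, mul_assoc] at h5
    have h6 : mT T3 * d = mT T * d := Nat.eq_of_mul_eq_mul_left (by norm_num) h5
    exact Nat.eq_of_mul_eq_mul_right hdpos h6
  have hTT : T3 = T := mT_inj hT3 hT0 hm
  subst hTT
  have hDD : D = D3 :=
    ((H.t3 hK h3 ι hι).2.2.2 T3 D h.parV.D_le h.tor a1 a2).2.2 D3 hne h3'.parV.D_le h3'.tor b1 b2 (hd.trans hd3.symm)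
  subst hDD
  have hF := h.eq_of H.toPcs hK h3' (a3.eq b3)
  rw [hF, hR'.real]
  exact real1

/-- `q = 3` -/
theorem real_three (H : Pcs3.{u}) (hK : HypK K p n) (h3 : p ^ n = 3)
    {F : FusionSystem (⊤ : Subgroup (PG K))} (hF : F.IsSaturated p) : F.IsRealizable p := by
  have : Fact p.Prime := ⟨hK.pp⟩
  have hfin : Finite (PG K) := finite_PG H.toPcs hK
  have hess : ∀ E, F.IsEssential p E → E = PV K ∨ E = PQ K := fun E hE => ess_cases H.toPcs hK (by omega) hF hE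
  by_cases hnV : ∀ γ ∈ F.autGroup (PV K), NormAut (⊤ : Subgroup (PG K)) γ
  · exact real_of_norm H.toPcs hK hF hess (Or.inl rfl) hnV
  by_cases hnQ : ∀ γ ∈ F.autGroup (PQ K), NormAut (⊤ : Subgroup (PG K)) γ
  · exact real_of_norm H.toPcs hK hF hess (Or.inr rfl) hnQ
  obtain ⟨ι, hι⟩ : ∃ ι : K, ι * ι = -1 := by
    have := hK.fin
    have := Fintype.ofFinite K
    have hc : Fintype.card K % 4 ≠ 3 := by
      rw [← Nat.card_eq_fintype_card, hK.card, h3]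
      norm_num
    obtain ⟨ι, hι⟩ := (FiniteField.isSquare_neg_one_iff).2 hc
    exact ⟨ι, hι.symm⟩
  obtain ⟨θ, F1, D1, hTw, hNF1⟩ := exists_NF H.toPcs hK hF hess hnV hnQ
  obtain ⟨F2, D, T, h, hR, hPt, hT⟩ := norm_three H hK h3 hι hNF1
  have hR' := (Rl.of_tw hTw).trans hR
  rw [← hR'.real]
  obtain ⟨a1, a2, a3, a4, a5, -⟩ := data H hK h3 hι h hPt
  obtain ⟨c1, c2, -⟩ := (H.t3 hK h3 ι hι).2.2.2 T D h.parV.D_le h.tor a1 a2
  rcases hT with rfl | rfl | rfl | rfl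
  · -- `T = 0`
    obtain ⟨F0, h0, hr0, hle⟩ := exists_real H.toPcs hK h a4
    have hL : LamP (Cfg ι 0) = LamQ K := (H.ep hK h3).2.2.2.2.2
    rw [hL] at a3
    have hsub : F0.autGroup (PQ K) ≤ F2.autGroup (PQ K) := fun γ hγ => (a3 γ).2 (hle γ hγ)
    obtain ⟨F0', T0, h0', hR0, hPt0⟩ := norm_pt H hK h3 hι h0
    have h5 := (data H hK h3 hι h0' hPt0).2.2.2.2.1
    rw [hR0.aq] at h5
    have hfinQ : Finite (MulAut (PQ K)) :=
      Finite.of_injective (fun α : MulAut (PQ K) => α.toEquiv) (fun a b h => by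
        ext1 x; exact congrArg (fun e : PQ K ≃ PQ K => e x) h)
    have hcard : Nat.card (F2.autGroup (PQ K)) ≤ Nat.card (F0.autGroup (PQ K)) := by
      rw [a5, h5]
      exact Nat.mul_le_mul_right _ (Nat.mul_le_mul_left _ (twelve_le T0))
    have heq : F0.autGroup (PQ K) = F2.autGroup (PQ K) := Subgroup.eq_of_le_of_card_ge hsub hcard
    rw [h.eq_of H.toPcs hK h0 heq.symm]
    exact hr0
  · rcases c1 (Or.inl rfl) with hc | hc
    · exact spor H hK h3 hι h hPt (Or.inr (Or.inl rfl)) (by decide) H.u6 hc rfl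
    · exact spor H hK h3 hι h hPt (Or.inr (Or.inl rfl)) (by decide) H.u62 hc rfl
  · rcases c1 (Or.inr (Or.inr (Or.inl rfl))) with hc | hc
    · exact spor H hK h3 hι h hPt (Or.inr (Or.inr (Or.inl rfl))) (by decide) H.mcl hc rfl
    · exact spor H hK h3 hι h hPt (Or.inr (Or.inr (Or.inl rfl))) (by decide) H.mcl2 hc rfl
  · exact spor H hK h3 hι h hPt (Or.inr (Or.inr (Or.inr rfl))) (by decide) H.co2 (c2 rfl) rfl

end

end Cfsg.Agent.H772.P4
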