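import Cfsg.Agent.H776.P4.Stmts2
import Cfsg.Agent.H805.PU.Main

/-!
# S5210: (TW2) twisting with all the automizers
-/

set_option autoImplicit false

namespace Cfsg.Agent.H772.P4

open Cfsg Cfsg.FusionSystem Cfsg.Agent.H759 Cfsg.Agent.H776.P4
open Cfsg.Agent.H756.PU (AF)

universe u

/-- a system is its own push-forward along the identity -/
theorem isPush_id {G0 : Type*} [Group G0] {S : Subgroup G0} (F : FusionSystem S) :
    IsPush (f := MonoidHom.id G0) (fun _ _ h => h) F F := by
  refine ⟨(Subgroup.map_id S).symm, fun P φ => ?_⟩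
  have hc : ∀ (x : G0) (hx : x ∈ P.map (MonoidHom.id G0)) (hx' : x ∈ P),
      cb (f := MonoidHom.id G0) (fun _ _ h => h) φ ⟨x, hx⟩ = φ ⟨x, hx'⟩ := by
    intro x hx hx'
    exact cb_apply (f := MonoidHom.id G0) (fun _ _ h => h) φ ⟨x, hx'⟩ hx
  constructor
  · intro h
    exact mem_hom_of_eq F (Subgroup.map_id P) h (fun x hx hx' => (hc x hx hx').symm)
  · intro h
    exact mem_hom_of_eq F (Subgroup.map_id P).symm h (fun x hx hx' => hc x hx' hx)

/-- (TW2) -/
theorem stTwist2 : StTwist2.{u} := by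
  intro G0 _ _ p _ F θ hF
  have hinj : Function.Injective (θ⁻¹ : MulAut G0).toMonoidHom := (θ⁻¹ : MulAut G0).injective
  have htop : (⊤ : Subgroup G0) = (⊤ : Subgroup G0).map (θ⁻¹ : MulAut G0).toMonoidHom :=
    (Subgroup.map_top_of_surjective _ (θ⁻¹ : MulAut G0).surjective).symm
  obtain ⟨F', hF'⟩ := exists_pull' (hf := hinj) htop F
  have hθ : Function.Injective θ.toMonoidHom := θ.injective
  have hF2 : IsPush hθ F F' := IsPush.cancel hF' (isPush_id F') (fun x => by
    show x = θ (θ⁻¹ x)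
    rw [MulAut.apply_inv_self])
  refine ⟨F', hF'.isSaturated_iff.1 hF, ⟨fun h => H776.Co.isRealizable_push hF' h, fun h => H776.Co.isRealizable_push hF2 h⟩,
    ?_, fun E => ?_, ?_⟩
  · rw [H805.PU.AF_push hF', Subgroup.map_map]
    have : (MulAut.conj θ).toMonoidHom.comp (MulAut.conj θ⁻¹).toMonoidHom = MonoidHom.id _ := by
      ext x
      simp [MulAut.conj_apply, mul_assoc]
    rw [this, Subgroup.map_id]
  · rw [← H805.PU.isEssential_iff hF', Subgroup.map_map]
    have : (θ⁻¹ : MulAut G0).toMonoidHom.comp θ.toMonoidHom = MonoidHom.id _ := by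
      ext x
      show θ⁻¹ (θ x) = x
      exact MulAut.inv_apply_self _ _ _
    rw [this, Subgroup.map_id]
  · intro Q t ht
    have ht' : ∀ e : Q, θ ((t⁻¹ e : Q) : G0) = e := by
      intro e
      rw [← ht, MulAut.apply_inv_self]
    have key : ∀ (P : Subgroup G0) (hP : P = Q) (α : MulAut P) (β : MulAut Q),
        (∀ (x : P) (y : Q), (x : G0) = y → ((α x : P) : G0) = β y) → (α ∈ F.autGroup P ↔ β ∈ F.autGroup Q) := by
      intro P hP α β hαβ
      subst hP
      have h1 : α = β := by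
        ext x
        exact hαβ x x rfl
      rw [h1]
    have hQ : Q.map (θ⁻¹ : MulAut G0).toMonoidHom = Q := by
      ext x
      constructor
      · rintro ⟨y, hy, rfl⟩
        show θ⁻¹ y ∈ Q
        have h1 := ht' ⟨y, hy⟩
        have h2 : θ⁻¹ y = ((t⁻¹ ⟨y, hy⟩ : Q) : G0) := by
          apply θ.injective
          rw [h1, MulAut.apply_inv_self]
        rw [h2]
        exact (t⁻¹ ⟨y, hy⟩ : Q).2
      · intro hx
        refine ⟨θ x, ?_, MulAut.inv_apply_self _ _ _⟩
        rw [← ht ⟨x, hx⟩]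
        exact (t ⟨x, hx⟩ : Q).2
    have main : ∀ α : MulAut Q, α ∈ F'.autGroup Q ↔ t⁻¹ * α * t ∈ F.autGroup Q := by
      intro α
      rw [← hF'.mem_autGroup_iff]
      apply key _ hQ
      intro x y hxy
      obtain ⟨z, rfl⟩ := (eqv hinj Q).surjective x
      rw [coe_ca_apply]
      show θ⁻¹ ((α z : Q) : G0) = ((t⁻¹ (α (t y)) : Q) : G0)
      have h1 : z = t y := by
        apply Subtype.ext
        rw [ht, ← hxy]
        show (z : G0) = θ (θ⁻¹ (z : G0))
        rw [MulAut.apply_inv_self]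
      rw [h1]
      apply θ.injective
      rw [ht', MulAut.apply_inv_self]
    ext α
    rw [main]
    constructor
    · intro h
      refine ⟨_, h, ?_⟩
      show t * (t⁻¹ * α * t) * t⁻¹ = α
      group
    · rintro ⟨β, hβ, rfl⟩
      show t⁻¹ * (t * β * t⁻¹) * t ∈ _
      have : t⁻¹ * (t * β * t⁻¹) * t = β := by group
      rw [this]
      exact hβ

end Cfsg.Agent.H772.P4
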